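import Mathlib
import Cfsg.Prelude.Def_ClassicalGeometry
import Cfsg.Prelude.Def_GeometricClasses
import Cfsg.Agent.Lib.Helper18.T23.H2.SOTDefs
import Cfsg.Agent.Lib.Helper18.T23.H2.SOTGDefs
import Cfsg.Agent.Lib.Helper18.T23.H27.SOTLADefs

/-!
S5666 part (LA), block A leaves A1 (helper27's sub-market): `fB_nondeg'`, `exists_nonsing`, `eq_add_nonsing`.
-/

set_option autoImplicit false
set_option linter.unusedSectionVars false
set_option linter.unusedVariables false

namespace Cfsg.Agent.Lib.Helper18.T23.H18.SOTLALeaf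
open Matrix
open Cfsg.Agent.Lib.Helper25.Tens Cfsg.Agent.Lib.Helper25.SpT Cfsg.Agent.Lib.Helper19.OSub
open Cfsg.Agent.Lib.Helper18.T23.H2.SOT Cfsg.Agent.Lib.Helper18.T23.H27.SOTLA
open scoped Kronecker

variable {F : Type*} [Field F] [Fintype F] {a b : ℕ} {G : Matrix (Fin b) (Fin b) F}
  {M : Subgroup (GL (Idx a b) F)}

/-! ### small calculus for `fB` (any field) -/

section fBcalc
variable {K : Type*} [Field K] {n : ℕ} (H : Matrix (Fin n) (Fin n) K)

lemma fB_neg_left' (y z : Fin n → K) : fB H (-y) z = - fB H y z := by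
  simp only [fB, neg_dotProduct]

lemma fB_neg_right' (y z : Fin n → K) : fB H y (-z) = - fB H y z := by
  simp only [fB, Matrix.mulVec_neg, dotProduct_neg]

lemma fB_sub_left' (y y' z : Fin n → K) : fB H (y - y') z = fB H y z - fB H y' z := by
  simp only [fB, sub_dotProduct]

lemma fB_sub_right' (y z z' : Fin n → K) : fB H y (z - z') = fB H y z - fB H y z' := by
  simp only [fB, Matrix.mulVec_sub, dotProduct_sub]

lemma fB_zero_left' (z : Fin n → K) : fB H 0 z = 0 := by
  simp only [fB, zero_dotProduct]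

lemma fB_zero_right' (y : Fin n → K) : fB H y 0 = 0 := by
  simp only [fB, Matrix.mulVec_zero, dotProduct_zero]

end fBcalc

/-- (A1a) non-degeneracy. -/
theorem fB_nondeg' (hnd : G.det ≠ 0) {y : Fin b → F} (hy : y ≠ 0) : ∃ y' : Fin b → F, fB G y y' ≠ 0 := by
  by_contra hcon
  push Not at hcon
  apply hy
  apply Matrix.eq_zero_of_vecMul_eq_zero hnd
  ext i
  have h1 := hcon (Pi.single i 1)
  unfold fB at h1
  rw [Matrix.dotProduct_mulVec] at h1
  simpa using h1

/-- (A1b) a nonsingular vector exists (polarisation, `2 ≠ 0`). -/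
theorem exists_nonsing (hG : Gᵀ = G) (hnd : G.det ≠ 0) (h2 : (2 : F) ≠ 0) (hb : 0 < b) :
    ∃ d : Fin b → F, fB G d d ≠ 0 := by
  by_contra hcon
  push Not at hcon
  have hy : (Pi.single (⟨0, hb⟩ : Fin b) (1 : F) : Fin b → F) ≠ 0 := by
    intro h
    have := congrFun h ⟨0, hb⟩
    simp at this
  obtain ⟨y', hy'⟩ := fB_nondeg' hnd hy
  apply hy'
  set y : Fin b → F := Pi.single (⟨0, hb⟩ : Fin b) (1 : F)
  have h1 := hcon (y + y')
  rw [fB_add_left, fB_add_right, fB_add_right, hcon y, hcon y', fB_comm G hG y' y] at h1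
  have h3 : 2 * fB G y y' = 0 := by linear_combination h1
  rcases mul_eq_zero.mp h3 with h | h
  · exact absurd h h2
  · exact h

/-- (A1c) every vector is a sum of two nonsingular vectors (`|F| ≥ 3`). -/
theorem eq_add_nonsing (hG : Gᵀ = G) (hnd : G.det ≠ 0) (h2 : (2 : F) ≠ 0) (hb : 0 < b)
    (y : Fin b → F) : ∃ d d' : Fin b → F, fB G d d ≠ 0 ∧ fB G d' d' ≠ 0 ∧ y = d + d' := by
  by_cases hy : fB G y y = 0
  · obtain ⟨d₀, hd₀⟩ := exists_nonsing hG hnd h2 hb
    -- choose `t ∈ {1, -1}` with `2 fB y d₀ + t Q(d₀) ≠ 0`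
    have hex : ∃ t : F, t ≠ 0 ∧ 2 * fB G y d₀ + t * fB G d₀ d₀ ≠ 0 := by
      by_cases h1 : 2 * fB G y d₀ + 1 * fB G d₀ d₀ = 0
      · refine ⟨-1, by simp, ?_⟩
        intro h3
        have h4 : 2 * fB G d₀ d₀ = 0 := by linear_combination h1 - h3
        rcases mul_eq_zero.mp h4 with h | h
        · exact h2 h
        · exact hd₀ h
      · exact ⟨1, one_ne_zero, h1⟩
    obtain ⟨t, ht, hne⟩ := hex
    refine ⟨y + t • d₀, -(t • d₀), ?_, ?_, ?_⟩
    · rw [fB_add_left, fB_add_right, fB_add_right, fB_smul_left, fB_smul_right, fB_smul_left,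
        fB_smul_right, hy, fB_comm G hG d₀ y]
      have : 0 + t * fB G y d₀ + (t * fB G y d₀ + t * (t * fB G d₀ d₀)) =
          t * (2 * fB G y d₀ + t * fB G d₀ d₀) := by ring
      rw [this]
      exact mul_ne_zero ht hne
    · rw [fB_neg_left', fB_neg_right', fB_smul_left, fB_smul_right, neg_neg]
      exact mul_ne_zero ht (mul_ne_zero ht hd₀)
    · abel
  · refine ⟨(2 : F) • y, -y, ?_, ?_, ?_⟩
    · rw [fB_smul_left, fB_smul_right]
      exact mul_ne_zero h2 (mul_ne_zero h2 hy)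
    · rw [fB_neg_left', fB_neg_right', neg_neg]
      exact hy
    · rw [two_smul]
      abel

end Cfsg.Agent.Lib.Helper18.T23.H18.SOTLALeaf
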