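import Mathlib
import Cfsg.Prelude.Def_ClassicalGeometry
import Cfsg.Prelude.Def_GeometricClasses
import Cfsg.Agent.Lib.Helper18.T23.H2.SOTDefs
import Cfsg.Agent.Lib.Helper18.T23.H2.SOTGDefs
import Cfsg.Agent.Lib.Helper18.T23.H27.SOTLADefs
import Cfsg.Agent.Lib.Helper18.T23.H18.SOTLAA1

/-!
S5666 part (LA), block A leaves A2 (helper27's sub-market): `refl_mulVec`, `refl_mul_self`, `refl_orth`,
`refl_conj_rk1`.  By-products: `isOrthB_of_forall`, `fB_refl_left` (the reflection is self-adjoint),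
`mat_ext_mulVec`.
-/

set_option autoImplicit false
set_option linter.unusedSectionVars false
set_option linter.unusedVariables false

namespace Cfsg.Agent.Lib.Helper18.T23.H18.SOTLALeaf
open Matrix
open Cfsg.Agent.Lib.Helper25.Tens Cfsg.Agent.Lib.Helper25.SpT Cfsg.Agent.Lib.Helper19.OSub
open Cfsg.Agent.Lib.Helper18.T23.H2.SOT Cfsg.Agent.Lib.Helper18.T23.H27.SOTLA
open scoped Kronecker

variable {F : Type*} [Field F] [Fintype F] {a b : ℕ} {G : Matrix (Fin b) (Fin b) F}
  {M : Subgroup (GL (Idx a b) F)}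

section gen
variable {K : Type*} [Field K] {n : ℕ} {H : Matrix (Fin n) (Fin n) K}

/-- matrices agreeing on all vectors are equal -/
lemma mat_ext_mulVec {A B : Matrix (Fin n) (Fin n) K} (h : ∀ y : Fin n → K, A *ᵥ y = B *ᵥ y) :
    A = B :=
  Matrix.mulVec_injective (funext h)

/-- isometries from the action on vectors -/
lemma isOrthB_of_forall {β : Matrix (Fin n) (Fin n) K}
    (h : ∀ y y' : Fin n → K, fB H (β *ᵥ y) (β *ᵥ y') = fB H y y') : IsOrthB H β := by
  unfold IsOrthB
  ext i j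
  have h1 := h (Pi.single i 1) (Pi.single j 1)
  unfold fB at h1
  rw [Matrix.mulVec_mulVec, Matrix.mulVec_single_one, Matrix.mulVec_single_one,
    Matrix.mulVec_single_one, single_one_dotProduct] at h1
  rw [Matrix.mul_assoc, Matrix.mul_apply]
  exact h1

end gen

/-- (A2a) -/
theorem refl_mulVec (d y : Fin b → F) :
    refl G d *ᵥ y = y - (2 * fB G y d / fB G d d) • d := by
  unfold Cfsg.Agent.Lib.Helper18.T23.H27.SOTLA.refl
  rw [Matrix.sub_mulVec, Matrix.one_mulVec, Matrix.smul_mulVec, rk1_mulVec, smul_smul]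
  congr 2
  ring

/-- the reflection is self-adjoint -/
lemma fB_refl_left (hG : Gᵀ = G) (d y v : Fin b → F) :
    fB G (refl G d *ᵥ y) v = fB G y (refl G d *ᵥ v) := by
  rw [refl_mulVec, refl_mulVec, fB_sub_left', fB_sub_right', fB_smul_left, fB_smul_right,
    fB_comm G hG d v]
  ring

/-- (A2b) -/
theorem refl_mul_self (hG : Gᵀ = G) {d : Fin b → F} (hd : fB G d d ≠ 0) :
    refl G d * refl G d = 1 := by
  apply mat_ext_mulVec
  intro y
  rw [← Matrix.mulVec_mulVec, Matrix.one_mulVec, refl_mulVec d (refl G d *ᵥ y), refl_mulVec,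
    fB_sub_left', fB_smul_left]
  have h1 : 2 * (fB G y d - 2 * fB G y d / fB G d d * fB G d d) / fB G d d =
      -(2 * fB G y d / fB G d d) := by
    field_simp
    ring
  rw [h1]
  module

/-- (A2c) -/
theorem refl_orth (hG : Gᵀ = G) {d : Fin b → F} (hd : fB G d d ≠ 0) : IsOrthB G (refl G d) := by
  apply isOrthB_of_forall
  intro y y'
  rw [fB_refl_left hG]
  have := refl_mul_self hG hd
  rw [Matrix.mulVec_mulVec, this, Matrix.one_mulVec]

/-- (A2d) `r (u v^♭) r = (r u)(r v)^♭`. -/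
theorem refl_conj_rk1 (hG : Gᵀ = G) {d : Fin b → F} (hd : fB G d d ≠ 0) (u v : Fin b → F) :
    refl G d * rk1 G u v * refl G d = rk1 G (refl G d *ᵥ u) (refl G d *ᵥ v) := by
  apply mat_ext_mulVec
  intro y
  rw [← Matrix.mulVec_mulVec, ← Matrix.mulVec_mulVec, rk1_mulVec, rk1_mulVec, Matrix.mulVec_smul,
    fB_refl_left hG]

end Cfsg.Agent.Lib.Helper18.T23.H18.SOTLALeaf
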